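import Groth.Agent.PinchBlowLib.Univ
import Groth.Agent.BlowBCLib.Base
import Groth.Agent.PushLib.BC
import Groth.Agent.FComplLib.Spf
import Groth.Agent.FlatCxLib.Kernel

/-!
# Pinching along a Cartier divisor: the pinched scheme is blown up back
-/

set_option autoImplicit false
set_option maxHeartbeats 1000000
set_option backward.isDefEq.respectTransparency false
set_option backward.isDefEq.respectTransparency.types false
set_option linter.style.haveILetI false

universe u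

open AlgebraicGeometry CategoryTheory CategoryTheory.Limits

namespace Groth.Agent.PinchBlowLib

open Groth.Agent.PushLib

section Ring

variable {B' C B Z : Type u} [CommRing B'] [CommRing C] [CommRing B] [CommRing Z] (S : FibSq B' C B Z)

theorem exists_mem_ker_eq : ∀ y ∈ (RingHom.ker S.u).map S.v, ∃ x ∈ RingHom.ker S.u, S.v x = y := by
  intro y hy
  have h : (RingHom.ker S.u).map S.v ≤ RingHom.ker S.p := Ideal.map_le_iff_le_comap.mpr fun x hx => by
    rw [Ideal.mem_comap, RingHom.mem_ker, ← S.w, RingHom.mem_ker.mp hx, map_zero]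
  obtain ⟨x, hx1, hx2⟩ := S.lift 0 y (by rw [map_zero, RingHom.mem_ker.mp (h hy)])
  exact ⟨x, hx1, hx2⟩

theorem eq_zero_of_mem_ker : ∀ x ∈ RingHom.ker S.u, S.v x = 0 → x = 0 := fun x hx h =>
  S.inj x 0 (by rw [RingHom.mem_ker.mp hx, map_zero]) (by rw [h, map_zero])

theorem exists_mem_pow_eq (n : ℕ) :
    ∀ y ∈ ((RingHom.ker S.u).map S.v) ^ (n + 1), ∃ x ∈ RingHom.ker S.u ^ (n + 1), S.v x = y := by
  induction n with
  | zero => simpa using exists_mem_ker_eq S
  | succ n ih =>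
    intro y hy
    rw [pow_succ] at hy
    refine Submodule.mul_induction_on hy (fun a ha b hb => ?_) (fun a b => ?_)
    · obtain ⟨x, hx, rfl⟩ := ih a ha
      obtain ⟨x', hx', rfl⟩ := exists_mem_ker_eq S b hb
      exact ⟨x * x', by rw [pow_succ]; exact Ideal.mul_mem_mul hx hx', map_mul _ _ _⟩
    · rintro ⟨x, hx, rfl⟩ ⟨x', hx', rfl⟩
      exact ⟨x + x', add_mem hx hx', map_add _ _ _⟩

theorem map_ker_le : (RingHom.ker S.u).map S.v ≤ RingHom.ker S.p := Ideal.map_le_iff_le_comap.mpr fun x hx => by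
  rw [Ideal.mem_comap, RingHom.mem_ker, ← S.w, RingHom.mem_ker.mp hx, map_zero]

/-- The square with both upper rings cut by the `n`-th power of the conductor. -/
noncomputable def sqPow (n : ℕ) : FibSq (B' ⧸ RingHom.ker S.u ^ (n + 1)) C
    (B ⧸ ((RingHom.ker S.u).map S.v) ^ (n + 1)) Z where
  u := Ideal.Quotient.lift _ S.u fun x hx => Ideal.pow_le_self n.succ_ne_zero hx
  v := Ideal.quotientMap _ S.v (by rw [← Ideal.map_le_iff_le_comap, Ideal.map_pow])
  q := S.q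
  p := Ideal.Quotient.lift _ S.p fun x hx => map_ker_le S (Ideal.pow_le_self n.succ_ne_zero hx)
  w x := by
    obtain ⟨x, rfl⟩ := Ideal.Quotient.mk_surjective x
    rw [Ideal.quotientMap_mk, Ideal.Quotient.lift_mk, Ideal.Quotient.lift_mk]
    exact S.w x
  surj z := by
    obtain ⟨b, rfl⟩ := S.surj z
    exact ⟨Ideal.Quotient.mk _ b, Ideal.Quotient.lift_mk _ _ _⟩
  inj x y := by
    obtain ⟨x, rfl⟩ := Ideal.Quotient.mk_surjective x
    obtain ⟨y, rfl⟩ := Ideal.Quotient.mk_surjective y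
    intro h1 h2
    rw [Ideal.Quotient.lift_mk, Ideal.Quotient.lift_mk] at h1
    rw [Ideal.quotientMap_mk, Ideal.quotientMap_mk, Ideal.Quotient.eq, ← map_sub] at h2
    obtain ⟨z, hz, hzv⟩ := exists_mem_pow_eq S n _ h2
    rw [Ideal.Quotient.eq]
    have hker : x - y - z ∈ RingHom.ker S.u := by
      rw [RingHom.mem_ker, map_sub, map_sub, h1, sub_self, RingHom.mem_ker.mp (Ideal.pow_le_self n.succ_ne_zero hz),
        sub_zero]
    have := eq_zero_of_mem_ker S _ hker (by rw [map_sub, hzv, sub_self])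
    rwa [sub_eq_zero.mp this]
  lift c b h := by
    obtain ⟨b, rfl⟩ := Ideal.Quotient.mk_surjective b
    rw [Ideal.Quotient.lift_mk] at h
    obtain ⟨x, hx1, hx2⟩ := S.lift c b h
    exact ⟨Ideal.Quotient.mk _ x, by rw [Ideal.Quotient.lift_mk, hx1], by rw [Ideal.quotientMap_mk, hx2]⟩

theorem flat_quot_pow {R : Type u} [CommRing R] (φ : R →+* B') (n : ℕ)
    (hC : (S.u.comp φ).Flat) (hZ : (S.q.comp (S.u.comp φ)).Flat)
    (hB : ((Ideal.Quotient.mk (((RingHom.ker S.u).map S.v) ^ (n + 1))).comp (S.v.comp φ)).Flat) :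
    ((Ideal.Quotient.mk (RingHom.ker S.u ^ (n + 1))).comp φ).Flat := by
  letI : Algebra R (B' ⧸ RingHom.ker S.u ^ (n + 1)) :=
    ((Ideal.Quotient.mk (RingHom.ker S.u ^ (n + 1))).comp φ).toAlgebra
  letI : Algebra R C := (S.u.comp φ).toAlgebra
  letI : Algebra R (B ⧸ ((RingHom.ker S.u).map S.v) ^ (n + 1)) :=
    ((Ideal.Quotient.mk (((RingHom.ker S.u).map S.v) ^ (n + 1))).comp (S.v.comp φ)).toAlgebra
  letI : Algebra R Z := (S.q.comp (S.u.comp φ)).toAlgebra
  haveI : Module.Flat R C := hC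
  haveI : Module.Flat R Z := hZ
  haveI : Module.Flat R (B ⧸ ((RingHom.ker S.u).map S.v) ^ (n + 1)) := hB
  exact FibSq.flat (sqPow S n) (R := R) (RingHom.ext fun _ => rfl) (RingHom.ext fun _ => rfl)
    (RingHom.ext fun _ => rfl)

/-- Flatness of the quotient by a power of a principal nonzero divisor. -/
theorem flat_quot_span_pow {R : Type u} [CommRing R] (φ : R →+* B) {t : B} (ht : t ∈ nonZeroDivisors B)
    (h : ((Ideal.Quotient.mk (Ideal.span {t})).comp φ).Flat) :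
    ∀ n : ℕ, ((Ideal.Quotient.mk (Ideal.span {t} ^ (n + 1))).comp φ).Flat := by
  intro n
  induction n with
  | zero => rw [zero_add, pow_one]; exact h
  | succ n ih =>
    letI : Algebra R B := φ.toAlgebra
    haveI : Module.Flat R (B ⧸ Ideal.span {t} ^ (n + 1)) := ih
    haveI : Module.Flat R (B ⧸ Ideal.span {t}) := h
    let J : Ideal B := Ideal.span {t} ^ (n + 1 + 1)
    let f : B →ₗ[R] B ⧸ J := (Ideal.Quotient.mkₐ R J).toLinearMap ∘ₗ LinearMap.mulLeft R t
    have hf : ∀ x, f x = Ideal.Quotient.mk J (t * x) := fun _ => rfl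
    have hker : LinearMap.ker f = (Ideal.span {t} ^ (n + 1)).restrictScalars R := by
      ext x
      rw [LinearMap.mem_ker, hf, Ideal.Quotient.eq_zero_iff_mem, Submodule.restrictScalars_mem,
        Ideal.span_singleton_pow, Ideal.mem_span_singleton]
      simp only [J, Ideal.span_singleton_pow, Ideal.mem_span_singleton]
      constructor
      · rintro ⟨c, hc⟩
        refine ⟨c, (mul_cancel_left_mem_nonZeroDivisors ht).mp ?_⟩
        rw [hc]; ring
      · rintro ⟨c, rfl⟩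
        exact ⟨c, by ring⟩
    let i : (B ⧸ Ideal.span {t} ^ (n + 1)) →ₗ[R] B ⧸ J :=
      (Submodule.liftQ _ f hker.ge) ∘ₗ
        (Submodule.Quotient.restrictScalarsEquiv R (Ideal.span {t} ^ (n + 1))).symm.toLinearMap
    have hi : ∀ x, i (Ideal.Quotient.mk _ x) = Ideal.Quotient.mk J (t * x) := fun _ => rfl
    let π : (B ⧸ J) →ₗ[R] B ⧸ Ideal.span {t} :=
      (Ideal.Quotient.factorₐ R (show J ≤ Ideal.span {t} from Ideal.pow_le_self (Nat.succ_ne_zero _))).toLinearMap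
    have hπ : ∀ x, π (Ideal.Quotient.mk J x) = Ideal.Quotient.mk _ x := fun _ => rfl
    refine RingHom.flat_algebraMap_iff.mpr (FlatCxLib.flat_middle_of_flat i π ?_ ?_ ?_)
    · rw [injective_iff_map_eq_zero]
      intro x hx
      obtain ⟨x, rfl⟩ := Ideal.Quotient.mk_surjective x
      rw [hi, ← hf, ← LinearMap.mem_ker, hker] at hx
      exact Ideal.Quotient.eq_zero_iff_mem.mpr hx
    · intro y
      obtain ⟨y, rfl⟩ := Ideal.Quotient.mk_surjective y
      constructor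
      · intro hy
        rw [hπ, Ideal.Quotient.eq_zero_iff_mem, Ideal.mem_span_singleton] at hy
        obtain ⟨c, rfl⟩ := hy
        exact ⟨Ideal.Quotient.mk _ c, hi c⟩
      · rintro ⟨x, hx⟩
        obtain ⟨x, rfl⟩ := Ideal.Quotient.mk_surjective x
        rw [← hx, hi, hπ, Ideal.Quotient.eq_zero_iff_mem]
        exact Ideal.mul_mem_right _ _ (Ideal.mem_span_singleton_self t)
    · exact Ideal.Quotient.factor_surjective (show J ≤ Ideal.span {t} from Ideal.pow_le_self (Nat.succ_ne_zero (n + 1)))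

end Ring

/-- The thickenings of a flat effective Cartier divisor are flat. -/
theorem flat_pow_subscheme {X S : Scheme.{u}} (q : X ⟶ S) (𝓔 : X.IdealSheafData)
    (h𝓔 : BlowUp.IsEffCartierIdeal 𝓔) [Flat (𝓔.subschemeι ≫ q)] (n : ℕ) :
    Flat ((𝓔 ^ (n + 1)).subschemeι ≫ q) := by
  refine BlowBCLib.flat_subscheme_of_charts _ _ fun x => ?_
  obtain ⟨U, hxU, t, ht, hU⟩ := h𝓔 x
  obtain ⟨W, hxW, -⟩ := BlowUpLib.exists_affine (q x) (W := (⊤ : S.Opens)) trivial
  obtain ⟨U', hxU', hle⟩ := BlowUpLib.exists_affine x (W := U.1 ⊓ q ⁻¹ᵁ W.1) ⟨hxU, hxW⟩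
  have e : U'.1 ≤ q ⁻¹ᵁ W.1 := hle.trans inf_le_right
  let res : Γ(X, U.1) →+* Γ(X, U'.1) := ((𝟙 X : X ⟶ X).appLE U.1 U'.1 (hle.trans inf_le_left)).hom
  have ht' : res t ∈ nonZeroDivisors Γ(X, U'.1) :=
    BlowUpLib.nzd_of_flat _ (HasRingHomProperty.appLE @Flat (𝟙 X) inferInstance U U' _) ht
  have hU' : 𝓔.ideal U' = Ideal.span ({res t} : Set Γ(X, U'.1)) := by
    rw [← 𝓔.map_ideal (U := U') (V := U) (hle.trans inf_le_left), hU, Ideal.map_span, Set.image_singleton]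
    simp only [res, Scheme.Hom.appLE, Scheme.Hom.id_app, Category.id_comp]
    congr 2
  have hfl := BlowBCLib.flat_quot_appLE q 𝓔 W U' e
  rw [hU'] at hfl
  haveI : IsOpenImmersion U'.2.fromSpec := U'.2.isOpenImmersion_fromSpec
  haveI : IsOpenImmersion W.2.fromSpec := W.2.isOpenImmersion_fromSpec
  refine ⟨Γ(X, U'.1), inferInstance, U'.2.fromSpec, inferInstance, Ideal.span {res t} ^ (n + 1),
    U'.2.range_fromSpec.symm ▸ hxU', ?_, ?_⟩
  · rw [BlowUpLib.comap_fromSpec (𝓔 ^ (n + 1)) U', show (𝓔 ^ (n + 1)).ideal U' = 𝓔.ideal U' ^ (n + 1) from rfl,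
      hU']
  · rw [← IsAffineOpen.SpecMap_appLE_fromSpec q W.2 U'.2 e, ← Category.assoc, ← Spec.map_comp]
    haveI : Flat (Spec.map (CommRingCat.ofHom
        ((Ideal.Quotient.mk (Ideal.span {res t} ^ (n + 1))).comp (q.appLE W.1 U'.1 e).hom))) :=
      BlowBCLib.flat_specMap (flat_quot_span_pow _ ht' hfl n)
    exact MorphismProperty.comp_mem @Flat _ _ this inferInstance

variable {S Xt Dt D X : Scheme.{u}} {ι : Dt ⟶ Xt} {h : Dt ⟶ D} {b : Xt ⟶ X} {j : D ⟶ X}
  [IsClosedImmersion ι]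

theorem exists_nice_of_affine [IsFinite h] [IsAffineHom b] (w : ι ≫ b = h ≫ j) (d : D) :
    ∃ p : Nice ι h, d ∈ p.V := by
  obtain ⟨W, hdW, -⟩ := BlowUpLib.exists_affine (j d) (W := (⊤ : X.Opens)) trivial
  obtain ⟨p, hp, -⟩ := PushLib.exists_nice ι h d (b ⁻¹ᵁ W.1) (W.2.preimage b) fun z hz => by
    show b (ι z) ∈ W.1
    rw [← Scheme.Hom.comp_apply, w, Scheme.Hom.comp_apply, hz]
    exact hdW
  exact ⟨p, hp⟩

/-- The pinched divisor pulls back to the divisor. -/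
theorem comap_ker [IsFinite h] [IsAffineHom b] [IsClosedImmersion j] (hP : IsPushout ι h b j) :
    j.ker.comap b = ι.ker := by
  have hpb : IsPullback ι h b j := isPullback_of_isPushout (exists_nice_of_affine hP.w) hP
  rw [← Scheme.IdealSheafData.ker_fst_of_isClosedImmersion, ← hpb.isoPullback_inv_fst,
    Scheme.Hom.ker_comp_of_isIso]

/-- A chart of the pinched scheme. -/
theorem exists_chart [IsFinite h] [IsAffineHom b] [IsClosedImmersion j] (hP : IsPushout ι h b j) (x : X)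
    (O : X.Opens) (hx : x ∈ O) :
    ∃ (p : Nice ι h) (c : Spec (CommRingCat.of p.ring) ⟶ X) (_ : IsOpenImmersion c),
      x ∈ Set.range c ∧ Set.range c ⊆ (O : Set X) ∧ IsPullback p.hU.fromSpec (specMap p.sq.v) b c ∧
      IsPullback p.hV.fromSpec (specMap p.sq.u) j c ∧
      j.ker.comap c = BlowUpLib.specIdeal (RingHom.ker p.sq.u) := by
  have hY : ∀ y : D, ∃ p : Nice ι h, y ∈ p.V := exists_nice_of_affine hP.w
  obtain ⟨p, hxp, hpO⟩ := exists_chart_le hY hP x O hx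
  have hb : IsPullback p.hU.fromSpec (specMap p.sq.v) b (p.ι ≫ (Nice.iso hY hP).hom) := by
    refine (Nice.isPullback_a hY p).flip.of_iso (Iso.refl _) (Iso.refl _) (Iso.refl _) (Nice.iso hY hP)
      (by simp) (by simp) ?_ (by simp)
    simp [Nice.a_iso hY hP]
  have hj : IsPullback p.hV.fromSpec (specMap p.sq.u) j (p.ι ≫ (Nice.iso hY hP).hom) := by
    refine (Nice.isPullback_b hY p).flip.of_iso (Iso.refl _) (Iso.refl _) (Iso.refl _) (Nice.iso hY hP)
      (by simp) (by simp) ?_ (by simp)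
    simp [Nice.b_iso hY hP]
  haveI : IsOpenImmersion p.ι := by
    show IsOpenImmersion ((Nice.cover (i := ι) (j := h)).f p)
    infer_instance
  refine ⟨p, p.ι ≫ (Nice.iso hY hP).hom, inferInstance, hxp, hpO, hb, hj, ?_⟩
  rw [← Scheme.IdealSheafData.ker_fst_of_isClosedImmersion, ← hj.flip.isoPullback_inv_fst,
    Scheme.Hom.ker_comp_of_isIso]
  exact FComplLib.ker_specMap p.sq.u

theorem isBlowUp_pinch [IsFinite h] [IsAffineHom b] [IsClosedImmersion j] (hP : IsPushout ι h b j)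
    (hι : BlowUp.IsEffCartierIdeal ι.ker) : BlowUp.IsBlowUp b j.ker := by
  choose p c hc hx hO hb hj hker using fun x : X => exists_chart hP x ⊤ trivial
  let 𝒰 : X.OpenCover := Scheme.Cover.mkOfCovers X (fun x => Spec (CommRingCat.of (p x).ring)) c
    (fun x => ⟨x, hx x⟩) hc
  refine BlowUpLib.isBlowUp_of_local 𝒰 (P := fun x : X => Spec Γ(Xt, (p x).U))
    (fun x : X => specMap (p x).sq.v) (fun x : X => (p x).hU.fromSpec) (fun x : X => hb x) fun (x : X) => ?_
  show BlowUp.IsBlowUp (specMap (p x).sq.v) (j.ker.comap (c x))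
  rw [hker x]
  refine isBlowUp_specMap (p x).sq.v _ (exists_mem_ker_eq _) (eq_zero_of_mem_ker _) ?_
  haveI := (p x).hU.isOpenImmersion_fromSpec
  rw [← BlowUpLib.comap_specIdeal, ← hker x, ← Scheme.IdealSheafData.comap_comp]
  show BlowUp.IsEffCartierIdeal (j.ker.comap (specMap (p x).sq.v ≫ c x))
  rw [← (hb x).w, Scheme.IdealSheafData.comap_comp, comap_ker hP]
  exact BlowUpLib.isEffCartier_comap_of_flat _ hι

theorem flat_thickenings [IsFinite h] [IsAffineHom b] [IsClosedImmersion j] (hP : IsPushout ι h b j)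
    (hι : BlowUp.IsEffCartierIdeal ι.ker) (sX : X ⟶ S) [Flat (j ≫ sX)] [Flat (ι ≫ b ≫ sX)] (n : ℕ) :
    Flat ((j.ker ^ (n + 1)).subschemeι ≫ sX) := by
  haveI : Flat (ι.ker.subschemeι ≫ b ≫ sX) := by
    have e : ι.ker.subschemeι ≫ b ≫ sX = inv ι.toImage ≫ ι ≫ b ≫ sX := by
      rw [IsIso.eq_inv_comp]
      show ι.toImage ≫ ι.imageι ≫ b ≫ sX = _
      rw [Scheme.Hom.toImage_imageι_assoc]
    rw [e]
    exact MorphismProperty.comp_mem @Flat _ _ inferInstance ‹_›
  haveI := flat_pow_subscheme (b ≫ sX) ι.ker hι n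
  refine BlowBCLib.flat_subscheme_of_charts _ _ fun x => ?_
  obtain ⟨W, hxW, -⟩ := BlowUpLib.exists_affine (sX x) (W := (⊤ : S.Opens)) trivial
  obtain ⟨p, c, hc, hx, hO, hb, hj, hker⟩ := exists_chart hP x (sX ⁻¹ᵁ W.1) hxW
  haveI := hc
  haveI : IsOpenImmersion W.2.fromSpec := W.2.isOpenImmersion_fromSpec
  haveI : IsOpenImmersion p.hU.fromSpec := p.hU.isOpenImmersion_fromSpec
  obtain ⟨φ, hφ⟩ : ∃ φ : Γ(S, W.1) →+* p.ring, Spec.map (CommRingCat.ofHom φ) ≫ W.2.fromSpec = c ≫ sX := by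
    have hr : Set.range (c ≫ sX) ⊆ Set.range W.2.fromSpec := by
      rintro _ ⟨z, rfl⟩
      rw [W.2.range_fromSpec]
      exact hO ⟨z, rfl⟩
    exact ⟨(Spec.preimage (IsOpenImmersion.lift W.2.fromSpec (c ≫ sX) hr)).hom, by
      rw [CommRingCat.ofHom_hom, Spec.map_preimage, IsOpenImmersion.lift_fac]⟩
  have key : ∀ {Y : Scheme.{u}} (U : Y.Opens) (hU : IsAffineOpen U) (t : Y ⟶ S) (m : p.ring →+* Γ(Y, U)),
      hU.fromSpec ≫ t = Spec.map (CommRingCat.ofHom (m.comp φ)) ≫ W.2.fromSpec →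
      ∃ e : U ≤ t ⁻¹ᵁ W.1, (t.appLE W.1 U e).hom = m.comp φ := by
    intro Y U hU t m hm
    have e : U ≤ t ⁻¹ᵁ W.1 := by
      intro z hz
      obtain ⟨z', rfl⟩ : z ∈ Set.range hU.fromSpec := hU.range_fromSpec.symm ▸ hz
      have h1 : t (hU.fromSpec z') ∈ Set.range W.2.fromSpec :=
        ⟨Spec.map (CommRingCat.ofHom (m.comp φ)) z', (congr($(hm) z')).symm⟩
      rwa [W.2.range_fromSpec] at h1
    refine ⟨e, congrArg CommRingCat.Hom.hom (Spec.map_injective (a₂ := CommRingCat.ofHom (m.comp φ))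
      ((cancel_mono W.2.fromSpec).mp ?_))⟩
    rw [IsAffineOpen.SpecMap_appLE_fromSpec t W.2 hU e, hm]
  have hV : p.hV.fromSpec ≫ j ≫ sX = Spec.map (CommRingCat.ofHom (p.sq.u.comp φ)) ≫ W.2.fromSpec := by
    rw [CommRingCat.ofHom_comp, Spec.map_comp, Category.assoc, hφ, reassoc_of% hj.w]
  have hUe : p.hU.fromSpec ≫ b ≫ sX = Spec.map (CommRingCat.ofHom (p.sq.v.comp φ)) ≫ W.2.fromSpec := by
    rw [CommRingCat.ofHom_comp, Spec.map_comp, Category.assoc, hφ, reassoc_of% hb.w]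
  obtain ⟨eV, hV'⟩ := key p.V p.hV (j ≫ sX) p.sq.u hV
  obtain ⟨eU, hU'⟩ := key p.U p.hU (b ≫ sX) p.sq.v hUe
  have hC : (p.sq.u.comp φ).Flat := by
    rw [← hV']
    exact HasRingHomProperty.appLE @Flat (j ≫ sX) ‹_› W ⟨_, p.hV⟩ eV
  have hB := BlowBCLib.flat_quot_appLE (b ≫ sX) (ι.ker ^ (n + 1)) W ⟨_, p.hU⟩ eU
  rw [hU'] at hB
  have hJ : (RingHom.ker p.sq.u).map p.sq.v = ι.ker.ideal ⟨_, p.hU⟩ := by
    refine BlowUpLib.specIdeal_injective ?_
    rw [← BlowUpLib.comap_specIdeal, ← hker, ← BlowUpLib.comap_fromSpec ι.ker ⟨_, p.hU⟩, ← comap_ker hP,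
      ← Scheme.IdealSheafData.comap_comp, ← Scheme.IdealSheafData.comap_comp, hb.w]
  rw [show (ι.ker ^ (n + 1)).ideal ⟨_, p.hU⟩ = ι.ker.ideal ⟨_, p.hU⟩ ^ (n + 1) from rfl, ← hJ] at hB
  have hZ : (p.sq.q.comp (p.sq.u.comp φ)).Flat := by
    have e3 : ι ⁻¹ᵁ p.U ≤ (ι ≫ b ≫ sX) ⁻¹ᵁ W.1 := Scheme.Hom.preimage_mono _ eU
    have h1 := HasRingHomProperty.appLE @Flat (ι ≫ b ≫ sX) ‹_› W ⟨_, p.hU.preimage ι⟩ e3
    convert h1 using 1
    refine RingHom.ext fun r => ?_
    refine Eq.trans (p.sq.w (φ r)) ?_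
    show (ι.app p.U).hom ((p.sq.v.comp φ) r) = _
    rw [← hU']
    simp only [Scheme.Hom.appLE, Scheme.Hom.comp_app, Category.assoc, CommRingCat.hom_comp, RingHom.comp_apply]
    exact congr($(ι.naturality (homOfLE eU).op) _)
  refine ⟨p.ring, inferInstance, c, hc, RingHom.ker p.sq.u ^ (n + 1), hx, ?_, ?_⟩
  · rw [FComplLib.specIdeal_pow, ← hker]
    exact FComplLib.comap_pow_succ c j.ker n
  · rw [← hφ, ← Category.assoc, ← Spec.map_comp, ← CommRingCat.ofHom_comp]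
    haveI : Flat (Spec.map (CommRingCat.ofHom ((Ideal.Quotient.mk (RingHom.ker p.sq.u ^ (n + 1))).comp φ))) :=
      BlowBCLib.flat_specMap (flat_quot_pow p.sq φ n hC hZ hB)
    exact MorphismProperty.comp_mem @Flat _ _ this inferInstance

end Groth.Agent.PinchBlowLib
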