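import Groth.Agent.BlowUpLib.Univ
import Groth.Agent.BlowUpLib.Props

/-!
# An affine map turning an ideal into an invertible one, bijectively, is the blowing up
-/

set_option autoImplicit false
set_option maxHeartbeats 1000000
set_option backward.isDefEq.respectTransparency false
set_option backward.isDefEq.respectTransparency.types false

universe u

open AlgebraicGeometry CategoryTheory CategoryTheory.Limits

namespace Groth.Agent.PinchBlowLib

variable {A B : Type u} [CommRing A] [CommRing B] (v : A →+* B) (I : Ideal A)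

/-- The extension along a ring map with `I` an ideal of `B`. -/
theorem existsUnique_ext (hJ : ∀ y ∈ I.map v, ∃ x ∈ I, v x = y)
    (hinj : ∀ x ∈ I, v x = 0 → x = 0) {D : Type u} [CommRing D] (φ : A →+* D) {a : A} (ha : a ∈ I)
    (hnz : φ a ∈ nonZeroDivisors D) (hI : I.map φ = Ideal.span {φ a}) :
    ∃! ψ : B →+* D, ψ.comp v = φ := by
  have key : ∀ b : B, ∃ w : D, ∃ x ∈ I, v x = b * v a ∧ φ x = w * φ a := fun b => by
    obtain ⟨x, hx, hxb⟩ := hJ _ (Ideal.mul_mem_left _ b (Ideal.mem_map_of_mem v ha))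
    obtain ⟨w, hw⟩ := Ideal.mem_span_singleton'.mp (hI ▸ Ideal.mem_map_of_mem φ hx)
    exact ⟨w, x, hx, hxb, hw.symm⟩
  choose w x hx hxb hw using key
  have heq : ∀ (b : B) (z : D) (y : A), y ∈ I → v y = b * v a → φ y = z * φ a → w b = z := by
    intro b z y hy hyb hz
    have : x b = y := sub_eq_zero.mp (hinj _ (I.sub_mem (hx b) hy) (by rw [map_sub, hxb, hyb, sub_self]))
    refine (mul_cancel_right_mem_nonZeroDivisors hnz).mp ?_
    rw [← hz, ← hw, this]
  let ψ : B →+* D :=
    { toFun := w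
      map_one' := heq 1 1 a ha (by rw [one_mul]) (by rw [one_mul])
      map_zero' := heq 0 0 0 I.zero_mem (by rw [map_zero, zero_mul]) (by rw [map_zero, zero_mul])
      map_add' := fun b c => heq _ _ (x b + x c) (I.add_mem (hx b) (hx c))
        (by rw [map_add, hxb, hxb, add_mul]) (by rw [map_add, hw, hw, add_mul])
      map_mul' := fun b c => by
        refine (mul_cancel_right_mem_nonZeroDivisors hnz).mp
          ((mul_cancel_right_mem_nonZeroDivisors hnz).mp ?_)
        have h1 : x (b * c) * a = x b * x c := by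
          refine sub_eq_zero.mp (hinj _ (I.sub_mem (I.mul_mem_left _ ha) (I.mul_mem_left _ (hx c))) ?_)
          rw [map_sub, map_mul, map_mul, hxb, hxb, hxb]
          ring
        have h2 := congrArg φ h1
        rw [map_mul, map_mul, hw, hw, hw] at h2
        rw [h2]
        ring }
  refine ⟨ψ, RingHom.ext fun r => heq _ _ (r * a) (I.mul_mem_left _ ha) (map_mul v r a) (map_mul φ r a),
    fun ψ' hψ' => RingHom.ext fun b => ?_⟩
  refine (heq b (ψ' b) (x b) (hx b) (hxb b) ?_).symm
  have hψ'' : ∀ r, ψ' (v r) = φ r := RingHom.congr_fun hψ'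
  rw [← hψ'' (x b), hxb, map_mul, hψ'']

/-- If `I` maps bijectively onto an invertible ideal of `B`, then `Spec B` is the blowing up of `I`. -/
theorem isBlowUp_specMap (hJ : ∀ y ∈ I.map v, ∃ x ∈ I, v x = y)
    (hinj : ∀ x ∈ I, v x = 0 → x = 0)
    (hc : BlowUp.IsEffCartierIdeal (BlowUpLib.specIdeal (I.map v))) :
    BlowUp.IsBlowUp (Spec.map (CommRingCat.ofHom v)) (BlowUpLib.specIdeal I) := by
  have huniq : ∀ (Y : Scheme.{u}) (g : Y ⟶ Spec (CommRingCat.of A)),
      BlowUp.IsEffCartierIdeal ((BlowUpLib.specIdeal I).comap g) →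
      ∀ k k' : Y ⟶ Spec (CommRingCat.of B), k ≫ Spec.map (CommRingCat.ofHom v) = g →
        k' ≫ Spec.map (CommRingCat.ofHom v) = g → k = k' := by
    intro Y g hg k k' hk hk'
    choose D hD j hj φ a hy hjg hnz hI using BlowUpLib.exists_gen_chart I g hg
    refine Scheme.Cover.hom_ext (Scheme.Cover.mkOfCovers Y (fun z => Spec (CommRingCat.of (D z))) j
      (fun z => ⟨z, hy z⟩) hj : Y.OpenCover) _ _ fun (z : Y) => ?_
    obtain ⟨χ, hχ⟩ : ∃ χ : B →+* D z, Spec.map (CommRingCat.ofHom χ) = j z ≫ k :=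
      ⟨(Spec.preimage (j z ≫ k)).hom, Spec.map_preimage _⟩
    obtain ⟨χ', hχ'⟩ : ∃ χ' : B →+* D z, Spec.map (CommRingCat.ofHom χ') = j z ≫ k' :=
      ⟨(Spec.preimage (j z ≫ k')).hom, Spec.map_preimage _⟩
    have e : ∀ (m : B →+* D z) (l : Y ⟶ Spec (CommRingCat.of B)),
        Spec.map (CommRingCat.ofHom m) = j z ≫ l → l ≫ Spec.map (CommRingCat.ofHom v) = g →
        m.comp v = φ z := fun m l hm hl => by
      refine congrArg CommRingCat.Hom.hom (Spec.map_injective
        (a₁ := CommRingCat.ofHom (m.comp v)) (a₂ := CommRingCat.ofHom (φ z)) ?_)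
      rw [CommRingCat.ofHom_comp, Spec.map_comp, hm, Category.assoc, hl, hjg]
    have h0 := (existsUnique_ext v I hJ hinj (φ z) (a z).2 (hnz z) (hI z)).unique (e χ k hχ hk)
      (e χ' k' hχ' hk')
    show j z ≫ k = j z ≫ k'
    rw [← hχ, ← hχ', h0]
  refine ⟨?_, fun Y g hg => ?_⟩
  · rw [BlowUpLib.comap_specIdeal]
    exact hc
  choose D hD j hj φ a hy hjg hnz hI using BlowUpLib.exists_gen_chart I g hg
  choose ψ hψ hψu using fun z => existsUnique_ext v I hJ hinj (φ z) (a z).2 (hnz z) (hI z)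
  let 𝒰 : Y.OpenCover := Scheme.Cover.mkOfCovers Y (fun z => Spec (CommRingCat.of (D z))) j
    (fun z => ⟨z, hy z⟩) hj
  let f : ∀ z : Y, Spec (CommRingCat.of (D z)) ⟶ Spec (CommRingCat.of B) :=
    fun z => Spec.map (CommRingCat.ofHom (ψ z))
  have hf : ∀ z, f z ≫ Spec.map (CommRingCat.ofHom v) = j z ≫ g := fun z => by
    rw [hjg, ← Spec.map_comp, ← CommRingCat.ofHom_comp, hψ]
  have hglue : ∀ z z' : Y, pullback.fst (j z) (j z') ≫ f z = pullback.snd (j z) (j z') ≫ f z' := by
    intro z z'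
    haveI := hj z
    haveI := hj z'
    refine huniq _ ((pullback.fst (j z) (j z') ≫ j z) ≫ g) ?_ _ _ ?_ ?_
    · rw [Scheme.IdealSheafData.comap_comp]
      exact BlowUpLib.isEffCartier_comap_of_flat _ hg
    · rw [Category.assoc, hf, Category.assoc]
    · rw [Category.assoc, hf, pullback.condition, Category.assoc]
  refine ⟨𝒰.glueMorphisms f hglue, ?_, fun m hm => huniq Y g hg m _ hm ?_⟩
  all_goals
    refine Scheme.Cover.hom_ext 𝒰 _ _ fun i => ?_
    exact ((Category.assoc _ _ _).symm.trans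
      (congrArg (· ≫ Spec.map (CommRingCat.ofHom v)) (Scheme.Cover.ι_glueMorphisms 𝒰 f hglue i))).trans (hf i)

end Groth.Agent.PinchBlowLib
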